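import Cfsg.Agent.SL2Mult.Criterion
import Cfsg.Agent.FGSB.StemExt
import Mathlib.GroupTheory.SpecificGroups.Alternating
import Mathlib.GroupTheory.SpecificGroups.Dihedral
import Mathlib.GroupTheory.Sylow
import Mathlib.Tactic.NormNum.Prime

/-!
The kernel of a stem extension of the alternating group of degree six or seven has order
dividing six.
-/

set_option autoImplicit false
set_option maxRecDepth 100000
set_option linter.style.haveILetI false
set_option linter.unusedVariables false

namespace CfsgLib.AltSixMult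

open Subgroup Equiv

universe u

/-- A group of order dividing six that commutes is cyclic. -/
theorem isCyclic_of_card_dvd_six {A : Type u} [CommGroup A] [Finite A] (h : Nat.card A ∣ 6) :
    IsCyclic A := by
  have hle : Nat.card A ≤ 6 := Nat.le_of_dvd (by norm_num) h
  have hpos : 0 < Nat.card A := Nat.card_pos
  obtain hA | hA | hA | hA : Nat.card A = 1 ∨ Nat.card A = 2 ∨ Nat.card A = 3 ∨ Nat.card A = 6 := by
    interval_cases hc : Nat.card A <;> omega
  · haveI := (Nat.card_eq_one_iff_unique.mp hA).1
    infer_instance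
  · haveI : Fact (Nat.Prime 2) := ⟨by norm_num⟩
    exact isCyclic_of_prime_card hA
  · haveI : Fact (Nat.Prime 3) := ⟨by norm_num⟩
    exact isCyclic_of_prime_card hA
  · haveI : Fact (Nat.Prime 2) := ⟨by norm_num⟩
    haveI : Fact (Nat.Prime 3) := ⟨by norm_num⟩
    obtain ⟨a, ha⟩ := exists_prime_orderOf_dvd_card' 2 (show 2 ∣ Nat.card A by rw [hA]; norm_num)
    obtain ⟨b, hb⟩ := exists_prime_orderOf_dvd_card' 3 (show 3 ∣ Nat.card A by rw [hA]; norm_num)
    refine isCyclic_of_orderOf_eq_card (a * b) ?_
    rw [(Commute.all a b).orderOf_mul_eq_mul_orderOf_of_coprime (by rw [ha, hb]; norm_num), ha, hb, hA]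

/-- A group of order nine has stem extensions with kernel of order dividing three. -/
theorem card_ker_dvd_three {Γ : Type u} {S : Type*} [Group Γ] [Finite Γ] [Group S]
    {τ : Γ →* S} (hτ : Cfsg.IsStemExtension τ) (hS : Nat.card S = 9) : Nat.card τ.ker ∣ 3 := by
  haveI : Fact (Nat.Prime 3) := ⟨by norm_num⟩
  haveI : Finite S := Nat.finite_of_card_ne_zero (by omega)
  by_cases hc : IsCyclic S
  · rw [StemExt.ker_eq_bot_of_isCyclic hτ, card_bot]; norm_num
  have hcomm : ∀ x y : S, x * y = y * x :=
    fun x y => (IsPGroup.isMulCommutative_of_card_eq_prime_sq (p := 3) (G := S) (by rw [hS]; norm_num)).is_comm.comm x y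
  have hexp : ∀ x : S, x ^ 3 = 1 := fun x => by
    obtain ⟨k, hk, hk'⟩ := (Nat.dvd_prime_pow (by norm_num : Nat.Prime 3)).1
      (show orderOf x ∣ 3 ^ 2 by have := orderOf_dvd_natCard x; rwa [hS] at this)
    rw [← orderOf_dvd_iff_pow_eq_one, hk']
    interval_cases k
    · norm_num
    · norm_num
    · exact absurd (isCyclic_of_orderOf_eq_card x (by rw [hk', hS]; norm_num)) hc
  haveI : Nontrivial S := Finite.one_lt_card_iff_nontrivial.mp (by omega)
  obtain ⟨a, ha⟩ := exists_ne (1 : S)
  obtain ⟨b, hb⟩ : ∃ b, b ∉ zpowers a := by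
    by_contra h
    push Not at h
    exact hc (isCyclic_iff_exists_zpowers_eq_top.mpr ⟨a, eq_top_iff.2 fun x _ => h x⟩)
  have hgen : closure ({a, b} : Set S) = ⊤ := by
    obtain ⟨k, hk, hk'⟩ := (Nat.dvd_prime_pow (by norm_num : Nat.Prime 3)).1
      (show Nat.card (closure ({a, b} : Set S)) ∣ 3 ^ 2 by
        have := card_subgroup_dvd_card (closure ({a, b} : Set S)); rwa [hS] at this)
    refine eq_top_of_card_eq _ ?_
    have h3 : orderOf a = 3 := by
      exact (orderOf_eq_prime (hexp a) ha)
    have hlt : zpowers a < closure ({a, b} : Set S) := lt_of_le_of_ne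
      (zpowers_le.2 (subset_closure (by simp))) fun h => hb (h ▸ subset_closure (by simp))
    have h4 : Nat.card (zpowers a) < Nat.card (closure ({a, b} : Set S)) :=
      lt_of_not_ge fun h => hlt.ne (eq_of_le_of_card_ge hlt.le h)
    rw [Nat.card_zpowers, h3, hk'] at h4
    rw [hk', hS]
    interval_cases k <;> simp_all
  obtain ⟨a', rfl⟩ := hτ.1 a
  obtain ⟨b', rfl⟩ := hτ.1 b
  have hnorm : τ b' * τ a' * (τ b')⁻¹ ∈ zpowers (τ a') := by
    rw [hcomm (τ b'), mul_inv_cancel_right]; exact mem_zpowers _
  have hle := StemExt.ker_le_zpowers hτ hgen hnorm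
  have hcb : Commute b' (a' ^ 3) :=
    mem_center_iff.1 (hτ.2.1 (show a' ^ 3 ∈ τ.ker by rw [MonoidHom.mem_ker, map_pow, hexp])) b'
  refine (card_dvd_of_le hle).trans ?_
  rw [Nat.card_zpowers]
  exact orderOf_dvd_of_pow_eq_one (StemExt.comm_pow_eq_one hτ.2.1 hnorm hcb)

/-- A dihedral group of order eight has stem extensions with kernel of order dividing two. -/
theorem card_ker_dvd_two {Γ : Type u} [Group Γ] [Finite Γ] {σ : Γ →* DihedralGroup 4}
    (hσ : Cfsg.IsStemExtension σ) : Nat.card σ.ker ∣ 2 := by
  obtain ⟨c, hc, hle, hev⟩ := StemExt.dihedral_bound hσ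
  have h2 : σ.ker ≤ zpowers (c ^ 2) := fun x hx => by
    obtain ⟨i, rfl⟩ := hle hx
    have := hev i hx
    obtain ⟨j, rfl⟩ : (2 : ℤ) ∣ i := by omega
    exact ⟨j, by simp [zpow_mul]⟩
  refine (card_dvd_of_le h2).trans ?_
  rw [Nat.card_zpowers]
  exact orderOf_dvd_of_pow_eq_one (by rw [← pow_mul]; exact hc)

/-- The first six of seven points. -/
def sixEquiv : Fin 6 ≃ {i : Fin 7 // i.val < 6} where
  toFun i := ⟨i.castSucc, i.isLt⟩
  invFun i := ⟨i.1.val, i.2⟩
  left_inv _ := rfl
  right_inv _ := rfl

/-- The alternating group of degree six inside that of degree seven. -/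
def sixHom : alternatingGroup (Fin 6) →* alternatingGroup (Fin 7) :=
  ((Perm.extendDomainHom sixEquiv).comp (alternatingGroup (Fin 6)).subtype).codRestrict _ fun g =>
    Perm.mem_alternatingGroup.2 ((Perm.sign_extendDomain _ _).trans (Perm.mem_alternatingGroup.1 g.2))

theorem sixHom_injective : Function.Injective sixHom := fun a b h =>
  Subtype.ext (Perm.extendDomainHom_injective sixEquiv (congrArg Subtype.val h))

/-- The images of the two generators of a dihedral group of order eight. -/
def dihR : Perm (Fin 6) := List.formPerm [0, 1, 2, 3] * swap 4 5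

/-- See `dihR`. -/
def dihS : Perm (Fin 6) := swap 1 3 * swap 4 5

/-- A dihedral group of order eight in the alternating group of degree six. -/
def dihFun : DihedralGroup 4 → Perm (Fin 6)
  | .r i => dihR ^ i.val
  | .sr i => dihS * dihR ^ i.val

theorem exists_dihedral_six : ∃ f : DihedralGroup 4 →* alternatingGroup (Fin 6), Function.Injective f := by
  have hmul : ∀ x y, dihFun (x * y) = dihFun x * dihFun y := by decide +kernel
  have heven : ∀ x, Perm.sign (dihFun x) = 1 := by decide +kernel
  have hinj : ∀ x y, dihFun x = dihFun y → x = y := by decide +kernel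
  refine ⟨MonoidHom.mk' (fun x => ⟨dihFun x, Perm.mem_alternatingGroup.2 (heven x)⟩)
    (fun x y => Subtype.ext (hmul x y)), fun x y h => hinj x y (congrArg Subtype.val h)⟩

theorem exists_dihedral {n : ℕ} (hn : n = 6 ∨ n = 7) :
    ∃ f : DihedralGroup 4 →* alternatingGroup (Fin n), Function.Injective f := by
  obtain ⟨f, hf⟩ := exists_dihedral_six
  rcases hn with rfl | rfl
  · exact ⟨f, hf⟩
  · exact ⟨sixHom.comp f, sixHom_injective.comp hf⟩

theorem card_alt {n : ℕ} (hn : n = 6 ∨ n = 7) :
    ∃ m, Nat.card (alternatingGroup (Fin n)) = 72 * m ∧ (m = 5 ∨ m = 35) := by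
  haveI : Nontrivial (Fin n) := Fin.nontrivial_iff_two_le.mpr (by omega)
  rw [nat_card_alternatingGroup, Nat.card_fin]
  rcases hn with rfl | rfl
  · exact ⟨5, rfl, Or.inl rfl⟩
  · exact ⟨35, rfl, Or.inr rfl⟩

/-- The kernel of a stem extension of the alternating group of degree six or seven. -/
theorem card_ker_dvd_six {n : ℕ} (hn : n = 6 ∨ n = 7) {Γ : Type u} [Group Γ] [Finite Γ]
    {σ : Γ →* alternatingGroup (Fin n)} (hσ : Cfsg.IsStemExtension σ) : Nat.card σ.ker ∣ 6 := by
  obtain ⟨m, hm, hm'⟩ := card_alt hn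
  have h0 : Nat.card σ.ker ≠ 0 := Nat.card_pos.ne'
  refine Nat.dvd_iff_prime_pow_dvd_dvd _ _ |>.2 fun p k hp hdvd => ?_
  haveI := Fact.mk hp
  obtain ⟨R, hR⟩ := Sylow.exists_subgroup_card_pow_prime p hdvd
  have hRG : IsPGroup p (R.map σ.ker.subtype) :=
    IsPGroup.of_card (n := k) (by rw [card_map_of_injective σ.ker.subtype_injective, hR])
  obtain ⟨P, hP⟩ := hRG.exists_le_sylow
  have hτ := SL2Mult.isStemExtension_sylow hσ P
  set τ := σ.subgroupMap (P : Subgroup Γ) with hτdef
  have hdk : p ^ k ∣ Nat.card τ.ker := by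
    let g : R →* τ.ker :=
      { toFun := fun x => ⟨⟨x.1.1, hP ⟨x.1, x.2, rfl⟩⟩, Subtype.ext x.1.2⟩
        map_one' := rfl
        map_mul' := fun _ _ => rfl }
    have hg : Function.Injective g := fun x y h =>
      Subtype.ext (Subtype.ext (congrArg (fun z : τ.ker => (z : (P : Subgroup Γ)).val) h))
    rw [← hR]
    exact card_dvd_of_injective g hg
  let S : Sylow p (alternatingGroup (Fin n)) := P.mapSurjective hσ.1
  have hS : ((S : Subgroup _)) = (P : Subgroup Γ).map σ := rfl
  have hScard := S.card_eq_multiplicity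
  rw [hS] at hScard
  by_cases h2 : p = 2
  · subst h2
    obtain ⟨f, hf⟩ := exists_dihedral hn
    have hfc : Nat.card f.range = 8 := by
      rw [← Nat.card_congr (MonoidHom.ofInjective hf).toEquiv, DihedralGroup.nat_card]
    have hfac : (Nat.card (alternatingGroup (Fin n))).factorization 2 = 3 := by
      rw [hm]
      rw [Nat.factorization_def _ Nat.prime_two]
      rcases hm' with rfl | rfl <;> decide +kernel
    let T : Sylow 2 (alternatingGroup (Fin n)) :=
      Sylow.ofCard f.range (by rw [hfc, hfac]; norm_num)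
    have e : (P : Subgroup Γ).map σ ≃* DihedralGroup 4 :=
      ((MulEquiv.subgroupCongr hS).symm.trans (S.equiv T)).trans (MonoidHom.ofInjective hf).symm
    have hk : (e.toMonoidHom.comp τ).ker = τ.ker := by ext x; simp
    have hst : Cfsg.IsStemExtension (e.toMonoidHom.comp τ) := by
      refine ⟨e.surjective.comp hτ.1, ?_, ?_⟩ <;> rw [hk]
      · exact hτ.2.1
      · exact hτ.2.2
    have := card_ker_dvd_two hst
    rw [hk] at this
    exact hdk.trans (this.trans (by norm_num))
  · by_cases h3 : p = 3
    · subst h3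
      have hfac : (Nat.card (alternatingGroup (Fin n))).factorization 3 = 2 := by
        rw [hm]
        rw [Nat.factorization_def _ Nat.prime_three]
        rcases hm' with rfl | rfl <;> decide +kernel
      exact hdk.trans ((card_ker_dvd_three hτ (by rw [hScard, hfac]; norm_num)).trans (by norm_num))
    · have hle : (Nat.card (alternatingGroup (Fin n))).factorization p ≤ 1 := by
        by_contra hlt
        have hd : p ^ 2 ∣ 2520 := by
          have h1 : p ^ 2 ∣ Nat.card (alternatingGroup (Fin n)) :=
            (pow_dvd_pow p (by omega)).trans (Nat.ordProj_dvd _ p)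
          rw [hm] at h1
          rcases hm' with rfl | rfl
          · exact h1.trans (by norm_num)
          · exact h1
        have hp8 : p ≤ 50 := by
          have := Nat.le_of_dvd (by norm_num) hd
          nlinarith
        interval_cases p <;> first | omega | (exact h2 rfl) | (exact h3 rfl) | (norm_num at hp) | (norm_num at hd)
      have hcyc : IsCyclic ((P : Subgroup Γ).map σ) := by
        rcases Nat.le_one_iff_eq_zero_or_eq_one.1 hle with h | h <;> rw [h] at hScard
        · haveI := (Nat.card_eq_one_iff_unique.mp hScard).1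
          infer_instance
        · exact isCyclic_of_prime_card (hScard.trans (pow_one p))
      rw [StemExt.ker_eq_bot_of_isCyclic hτ, card_bot] at hdk
      exact hdk.trans (one_dvd _)

end CfsgLib.AltSixMult
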