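import Cfsg.Agent.AltSixMult.Triple
import Cfsg.Agent.AltSixMult.Bound
import Cfsg.Agent.AltCover.DoubleCover
import Cfsg.Agent.Schur.Pullback

/-!
The covers of degree three and six of the alternating groups of degree six and seven.
-/

set_option autoImplicit false
set_option maxRecDepth 100000
set_option linter.style.haveILetI false

namespace CfsgLib.AltSixMult

open Subgroup Equiv
open scoped commutatorElement

universe u v w

/-- The pullback of two stem extensions with kernels of coprime orders is a stem extension. -/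
theorem stem_pullback {Q : Type u} [Group Q] {A : Type v} [Group A] [Finite A]
    {B : Type w} [Group B] [Finite B] {f : A →* Q} {g : B →* Q} (hf : Cfsg.IsStemExtension f)
    (hg : Cfsg.IsStemExtension g) (hco : (Nat.card f.ker).Coprime (Nat.card g.ker)) :
    Cfsg.IsStemExtension (f.comp (Schur.pfst f g)) ∧
      Cfsg.IsStemExtension (Schur.pfst f g) ∧
      Nat.card (f.comp (Schur.pfst f g)).ker = Nat.card f.ker * Nat.card g.ker ∧
      Nat.card (Schur.pfst f g).ker = Nat.card g.ker := by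
  have hs := Schur.pfst_surjective f g hg.1
  have hs2 := Schur.psnd_surjective f g hf.1
  have hk : ∀ x, x ∈ (f.comp (Schur.pfst f g)).ker ↔ x.1.1 ∈ f.ker ∧ x.1.2 ∈ g.ker := fun x => by
    rw [MonoidHom.mem_ker, MonoidHom.mem_ker, MonoidHom.mem_ker, ← Schur.mem_pullback.1 x.2]
    exact ⟨fun h => ⟨h, h⟩, fun h => h.1⟩
  have hmem : ∀ a ∈ f.ker, ∀ b ∈ g.ker, (a, b) ∈ Schur.pullback f g := fun a ha b hb => by
    rw [Schur.mem_pullback, MonoidHom.mem_ker.1 ha, MonoidHom.mem_ker.1 hb]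
  have hA : ∀ a (ha : a ∈ f.ker), (⟨(a, 1), hmem a ha 1 (one_mem _)⟩ : Schur.pullback f g) ∈
      commutator (Schur.pullback f g) := by
    intro a ha
    obtain ⟨x, hx, hxa⟩ := (Schur.map_commutator_of_surjective _ hs).ge (hf.2.2 ha)
    have hxa' : x.1.1 = a := hxa
    have hxb : x.1.2 ∈ g.ker := by
      rw [MonoidHom.mem_ker, ← Schur.mem_pullback.1 x.2, hxa']
      exact ha
    have hbn : x.1.2 ^ Nat.card g.ker = 1 :=
      congrArg Subtype.val (pow_card_eq_one' (x := (⟨x.1.2, hxb⟩ : g.ker)))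
    have hcop : Nat.Coprime (Nat.card g.ker) (orderOf a) :=
      (hco.coprime_dvd_left (f.ker.orderOf_dvd_natCard ha)).symm
    obtain ⟨m, hm⟩ := exists_pow_eq_self_of_coprime hcop
    have : (⟨(a, 1), hmem a ha 1 (one_mem _)⟩ : Schur.pullback f g) = (x ^ Nat.card g.ker) ^ m := by
      refine Subtype.ext (Prod.ext ?_ ?_)
      · show a = (x.1.1 ^ Nat.card g.ker) ^ m
        rw [hxa', hm]
      · show 1 = (x.1.2 ^ Nat.card g.ker) ^ m
        rw [hbn, one_pow]
    rw [this]
    exact pow_mem (pow_mem hx _) _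
  have hB : ∀ b (hb : b ∈ g.ker), (⟨(1, b), hmem 1 (one_mem _) b hb⟩ : Schur.pullback f g) ∈
      commutator (Schur.pullback f g) := by
    intro b hb
    obtain ⟨x, hx, hxb⟩ := (Schur.map_commutator_of_surjective _ hs2).ge (hg.2.2 hb)
    have hxb' : x.1.2 = b := hxb
    have hxa : x.1.1 ∈ f.ker := by
      rw [MonoidHom.mem_ker, Schur.mem_pullback.1 x.2, hxb']
      exact hb
    have han : x.1.1 ^ Nat.card f.ker = 1 :=
      congrArg Subtype.val (pow_card_eq_one' (x := (⟨x.1.1, hxa⟩ : f.ker)))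
    have hcop : Nat.Coprime (Nat.card f.ker) (orderOf b) :=
      hco.coprime_dvd_right (g.ker.orderOf_dvd_natCard hb)
    obtain ⟨m, hm⟩ := exists_pow_eq_self_of_coprime hcop
    have : (⟨(1, b), hmem 1 (one_mem _) b hb⟩ : Schur.pullback f g) = (x ^ Nat.card f.ker) ^ m := by
      refine Subtype.ext (Prod.ext ?_ ?_)
      · show 1 = (x.1.1 ^ Nat.card f.ker) ^ m
        rw [han, one_pow]
      · show b = (x.1.2 ^ Nat.card f.ker) ^ m
        rw [hxb', hm]
    rw [this]
    exact pow_mem (pow_mem hx _) _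
  have hstem : Cfsg.IsStemExtension (f.comp (Schur.pfst f g)) := by
    refine ⟨hf.1.comp hs, fun x hx => mem_center_iff.2 fun y => Subtype.ext (Prod.ext ?_ ?_),
      fun x hx => ?_⟩
    · exact mem_center_iff.1 (hf.2.1 ((hk x).1 hx).1) y.1.1
    · exact mem_center_iff.1 (hg.2.1 ((hk x).1 hx).2) y.1.2
    · obtain ⟨ha, hb⟩ := (hk x).1 hx
      have : x = (⟨(x.1.1, 1), hmem _ ha 1 (one_mem _)⟩ : Schur.pullback f g) *
          ⟨(1, x.1.2), hmem 1 (one_mem _) _ hb⟩ := Subtype.ext (Prod.ext (by simp) (by simp))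
      rw [this]
      exact mul_mem (hA _ ha) (hB _ hb)
  have hle : (Schur.pfst f g).ker ≤ (f.comp (Schur.pfst f g)).ker := fun x hx => by
    rw [MonoidHom.mem_ker, MonoidHom.comp_apply, MonoidHom.mem_ker.1 hx, map_one]
  refine ⟨hstem, ⟨hs, hle.trans hstem.2.1, hle.trans hstem.2.2⟩, ?_, ?_⟩
  · rw [← Nat.card_prod]
    exact Nat.card_congr
      { toFun := fun x => (⟨x.1.1.1, ((hk x.1).1 x.2).1⟩, ⟨x.1.1.2, ((hk x.1).1 x.2).2⟩)
        invFun := fun p => ⟨⟨(p.1.1, p.2.1), hmem _ p.1.2 _ p.2.2⟩, (hk _).2 ⟨p.1.2, p.2.2⟩⟩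
        left_inv := fun _ => rfl
        right_inv := fun _ => rfl }
  · exact Nat.card_congr
      { toFun := fun x => ⟨x.1.1.2, ((hk x.1).1 (hle x.2)).2⟩
        invFun := fun b => ⟨⟨(1, b.1), hmem 1 (one_mem _) _ b.2⟩, rfl⟩
        left_inv := fun x => Subtype.ext (Subtype.ext (Prod.ext (x.2 : x.1.1.1 = 1).symm rfl))
        right_inv := fun _ => rfl }

/-- A triple cover, with a commutator generating the kernel, is a stem extension. -/
theorem stem_of_comm {E Q : Type*} [Group E] [Group Q] [Finite E] (σ : E →* Q)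
    (hs : Function.Surjective σ) (hc : σ.ker ≤ center E) (hcard : Nat.card σ.ker = 3) {x y : E}
    (hk : ⁅x, y⁆ ∈ σ.ker) (h1 : ⁅x, y⁆ ≠ 1) : Cfsg.IsStemExtension σ := by
  refine ⟨hs, hc, fun z hz => ?_⟩
  haveI : Fact (Nat.Prime 3) := ⟨by norm_num⟩
  obtain ⟨m, hm⟩ := zpowers_eq_top_of_prime_card hcard
    (g := (⟨⁅x, y⁆, hk⟩ : σ.ker)) (fun h => h1 (congrArg Subtype.val h)) ▸
      mem_top (⟨z, hz⟩ : σ.ker)
  have hz' : ⁅x, y⁆ ^ m = z := congrArg Subtype.val hm
  rw [← hz']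
  exact zpow_mem (commutator_mem_commutator (mem_top x) (mem_top y)) m

theorem exists_triple {n : ℕ} (hn : n = 6 ∨ n = 7) : ∃ (Γ : Type) (_ : Group Γ) (_ : Finite Γ)
    (σ : Γ →* alternatingGroup (Fin n)), Cfsg.IsStemExtension σ ∧ Nat.card σ.ker = 3 := by
  obtain ⟨Γ, _, _, σ, hs, hc, hcard, x, y, hx, hy, hk, h1⟩ := exists_triple_seven
  rcases hn with rfl | rfl
  swap
  · exact ⟨Γ, inferInstance, inferInstance, σ, stem_of_comm σ hs hc hcard hk h1, hcard⟩
  let H := sixHom.range.comap σ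
  let e := MonoidHom.ofInjective sixHom_injective
  let τ : H →* alternatingGroup (Fin 6) :=
    e.symm.toMonoidHom.comp (σ.subgroupComap sixHom.range)
  have hτ : ∀ h : H, h ∈ τ.ker ↔ (h : Γ) ∈ σ.ker := fun h => by
    show e.symm (σ.subgroupComap sixHom.range h) = 1 ↔ _
    rw [EmbeddingLike.map_eq_one_iff]
    exact Subtype.ext_iff
  have hxe : ∀ p : Perm (Fin 6), ∀ q : Perm (Fin 7), Perm.sign p = 1 →
      (∀ i, (Perm.extendDomain p sixEquiv) i = q i) → ∀ g : Γ, (σ g).1 = q → g ∈ H := by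
    intro p q hp hpq g hg
    exact ⟨⟨p, Perm.mem_alternatingGroup.2 hp⟩, Subtype.ext ((Equiv.ext hpq).trans hg.symm)⟩
  have hxH : x ∈ H := by
    refine hxe (List.formPerm [0, 5, 3] * List.formPerm [1, 4, 2]) (List.formPerm [0, 5, 3] * List.formPerm [1, 4, 2])
      (by decide +kernel) (by decide +kernel) x (Equiv.ext fun i => Fin.ext ?_)
    rw [hx i]; revert i; decide +kernel
  have hyH : y ∈ H := by
    refine hxe (List.formPerm [0, 3, 5] * List.formPerm [4]) (List.formPerm [0, 3, 5] * List.formPerm [4])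
      (by decide +kernel) (by decide +kernel) y (Equiv.ext fun i => Fin.ext ?_)
    rw [hy i]; revert i; decide +kernel
  have hτs : Function.Surjective τ := e.symm.surjective.comp fun q => by
    obtain ⟨g, hg⟩ := hs q.1
    exact ⟨⟨g, show σ g ∈ sixHom.range from hg.symm ▸ q.2⟩, Subtype.ext hg⟩
  have hcard' : Nat.card τ.ker = 3 := by
    rw [← hcard]
    exact Nat.card_congr
      { toFun := fun g => ⟨g.1.1, (hτ g.1).1 g.2⟩
        invFun := fun g => ⟨⟨g.1, show σ g.1 ∈ sixHom.range by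
          rw [MonoidHom.mem_ker.1 g.2]; exact one_mem _⟩, (hτ _).2 g.2⟩
        left_inv := fun _ => rfl
        right_inv := fun _ => rfl }
  refine ⟨H, inferInstance, inferInstance, τ, stem_of_comm τ hτs ?_ hcard' (x := ⟨x, hxH⟩)
    (y := ⟨y, hyH⟩) ((hτ _).2 hk) (fun h => h1 (congrArg Subtype.val h)), hcard'⟩
  exact fun g hg => mem_center_iff.2 fun a =>
    Subtype.ext (mem_center_iff.1 (hc ((hτ g).1 hg)) a.1)

theorem exists_double {n : ℕ} (hn : 4 ≤ n) : ∃ (Γ : Type) (_ : Group Γ) (_ : Finite Γ)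
    (σ : Γ →* alternatingGroup (Fin n)), Cfsg.IsStemExtension σ ∧ Nat.card σ.ker = 2 := by
  obtain ⟨Γ, _, _, z, hz, ho, hc, hN, ⟨e⟩⟩ := CfsgLib.AltCover.exists_double_cover n hn
  haveI := hN
  let σ := e.toMonoidHom.comp (QuotientGroup.mk' (zpowers z))
  have hk : σ.ker = zpowers z := by
    ext g; simp [σ]
  refine ⟨Γ, inferInstance, inferInstance, σ,
    ⟨e.surjective.comp (QuotientGroup.mk'_surjective _), ?_, ?_⟩, ?_⟩
  · rw [hk, zpowers_le]; exact hz
  · rw [hk, zpowers_le]; exact hc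
  · rw [hk, Nat.card_zpowers, ho]

theorem exists_six {n : ℕ} (hn : n = 6 ∨ n = 7) : ∃ (Γ : Type) (_ : Group Γ) (_ : Finite Γ)
    (σ : Γ →* alternatingGroup (Fin n)), Cfsg.IsStemExtension σ ∧ Nat.card σ.ker = 6 := by
  obtain ⟨A, _, _, f, hf, hf3⟩ := exists_triple hn
  obtain ⟨B, _, _, g, hg, hg2⟩ := exists_double (n := n) (by omega)
  obtain ⟨h1, -, h3, -⟩ := stem_pullback hf hg (by rw [hf3, hg2]; norm_num)
  exact ⟨_, inferInstance, inferInstance, _, h1, by rw [h3, hf3, hg2]⟩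

/-- A central kernel of a finite group is commutative, hence cyclic when its order divides six. -/
theorem ker_cyclic {E Q : Type*} [Group E] [Group Q] [Finite E] {σ : E →* Q}
    (hc : σ.ker ≤ center E) (h : Nat.card σ.ker ∣ 6) : IsCyclic σ.ker := by
  letI : CommGroup σ.ker :=
    { (inferInstance : Group σ.ker) with
      mul_comm := fun a b => Subtype.ext (mem_center_iff.1 (hc b.2) a.1) }
  exact isCyclic_of_card_dvd_six h

end CfsgLib.AltSixMult
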