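import Cfsg.Agent.AltSixMult.Cover
import Cfsg.Agent.DMult.StemBound
import Cfsg.Agent.Classical.SmallPSL
import Cfsg.Agent.FGSB.StemExt

/-!
The multiplier of the special linear group of degree two over the field with nine elements.
-/

set_option autoImplicit false
set_option linter.style.haveILetI false

namespace CfsgLib.AltSixMult

open Subgroup

universe u

theorem hasSchurMultiplier_sl_two_nine {F : Type u} [Field F] [Fintype F] (hF : Fintype.card F = 9) :
    Cfsg.HasCyclicSchurMultiplier (Matrix.SpecialLinearGroup (Fin 2) F) 3 := by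
  classical
  obtain ⟨iso⟩ := CfsgLib.Linear.Small.nonempty_psl_two_nine hF
  have hperf : commutator (Matrix.SpecialLinearGroup (Fin 2) F) = ⊤ :=
    CfsgLib.Linear.commutator_SL_eq_top
      (Or.inr (CfsgLib.Linear.Small.exists_sq_ne_one (F := F) (by omega)))
  let τ := QuotientGroup.mk' (center (Matrix.SpecialLinearGroup (Fin 2) F))
  have hτker : τ.ker = center (Matrix.SpecialLinearGroup (Fin 2) F) := QuotientGroup.ker_mk' _
  let f : Matrix.SpecialLinearGroup (Fin 2) F →* alternatingGroup (Fin 6) := iso.toMonoidHom.comp τ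
  have hfk : f.ker = τ.ker := by ext x; simp [f]
  have hf : Cfsg.IsStemExtension f :=
    ⟨iso.surjective.comp (QuotientGroup.mk'_surjective _), by rw [hfk, hτker],
      by rw [hperf]; exact le_top⟩
  have hf2 : Nat.card f.ker = 2 := by
    rw [hfk, hτker, CfsgLib.Linear.card_center_SL, Fintype.card_fin, Nat.card_eq_fintype_card, hF]
    norm_num
  obtain ⟨B, _, _, g, hg, hg3⟩ := exists_triple (n := 6) (Or.inl rfl)
  obtain ⟨-, h2, -, h4⟩ := stem_pullback hf hg (by rw [hf2, hg3]; norm_num)
  refine CfsgLib.StemExt.hasCyclicSchurMultiplier (Schur.pfst f g) h2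
    (ker_cyclic h2.2.1 (by rw [h4, hg3]; norm_num)) (h4.trans hg3) fun Γ _ _ σ hσ => ?_
  have hperfΓ : commutator Γ = ⊤ := by
    refine eq_top_iff.2 fun y _ => ?_
    obtain ⟨c, hc', ec⟩ : σ y ∈ (commutator Γ).map σ := by
      rw [Schur.map_commutator_of_surjective σ hσ.1, hperf]; trivial
    have := mul_mem hc' (hσ.2.2 (show c⁻¹ * y ∈ σ.ker by
      rw [MonoidHom.mem_ker, map_mul, map_inv, ec, inv_mul_cancel]))
    rwa [mul_inv_cancel_left] at this
  have hk : (f.comp σ).ker = (τ.comp σ).ker := by ext x; simp [f]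
  have hst : Cfsg.IsStemExtension (f.comp σ) :=
    ⟨hf.1.comp hσ.1,
      hk ▸ DMult.comp_ker_le_center σ hσ.2.1 τ hτker.le hperfΓ,
      by rw [hperfΓ]; exact le_top⟩
  have h6 := card_ker_dvd_six (Or.inl rfl) hst
  have hmul : Nat.card (f.comp σ).ker = Nat.card σ.ker * 2 := by
    let r : (f.comp σ).ker →* f.ker :=
      (σ.comp (f.comp σ).ker.subtype).codRestrict f.ker fun x => x.2
    have hr : Function.Surjective r := fun d => by
      obtain ⟨x, hx⟩ := hσ.1 d.1
      exact ⟨⟨x, show f (σ x) = 1 by rw [hx]; exact d.2⟩, Subtype.ext hx⟩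
    have hrk : Nat.card r.ker = Nat.card σ.ker := Nat.card_congr
      { toFun := fun x => ⟨x.1.1, congrArg Subtype.val (x.2 : r x.1 = 1)⟩
        invFun := fun y => ⟨⟨y.1, show f (σ y.1) = 1 by rw [MonoidHom.mem_ker.1 y.2, map_one]⟩,
          Subtype.ext (MonoidHom.mem_ker.1 y.2)⟩
        left_inv := fun _ => rfl
        right_inv := fun _ => rfl }
    have h := r.ker.card_mul_index
    rw [index_ker, MonoidHom.range_eq_top.2 hr, card_top, hrk, hf2] at h
    exact h.symm
  rw [hmul] at h6
  have h3 : Nat.card σ.ker ∣ 3 := Nat.dvd_of_mul_dvd_mul_right (by norm_num : 0 < 2) h6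
  exact ⟨ker_cyclic hσ.2.1 (h3.trans (by norm_num)), h3⟩

end CfsgLib.AltSixMult
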