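import Cfsg.Agent.AltSixMult.Data
import Cfsg.Agent.U35.Model
import Mathlib.GroupTheory.SpecificGroups.Alternating
import Mathlib.GroupTheory.Perm.Sign
import Mathlib.FieldTheory.Finite.GaloisField

/-!
The triple covers of the alternating groups of degree six and seven.
-/

set_option autoImplicit false
set_option maxRecDepth 100000
set_option Elab.async false
set_option linter.style.haveILetI false

namespace CfsgLib.AltSixMult

open CfsgLib.Coset CfsgLib.Unitary CfsgLib.U35 Subgroup Equiv
open scoped commutatorElement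

/-- An entry of a coded permutation. -/
noncomputable def nth (c i : Nat) : Nat := Nat.mod (Nat.land (Nat.shiftRight c (Nat.mul 3 i)) 7) 7

theorem img_step : allBelow 13 7560 (fun j => allBelow 3 7 fun i =>
    cond (Nat.beq (nth (img (Nat.land (next j) 8191)) i) (nth (img j) (nth imgA i)))
      (Nat.beq (nth (img (Nat.shiftRight (next j) 13)) i) (nth (img j) (nth imgB i))) false) = true := by
  decide +kernel

theorem img_ker : allBelow 13 7560 (fun j =>
    cond (Nat.beq j 0) true (cond (Nat.beq j 1244) true (cond (Nat.beq j 2000) true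
      (cond (Nat.beq (nth (img j) 0) 0)
        (cond (Nat.beq (nth (img j) 1) 1)
          (cond (Nat.beq (nth (img j) 2) 2)
            (cond (Nat.beq (nth (img j) 3) 3)
              (cond (Nat.beq (nth (img j) 4) 4)
                (cond (Nat.beq (nth (img j) 5) 5)
                  (cond (Nat.beq (nth (img j) 6) 6) false true) true) true) true) true) true) true)))) = true := by
  decide +kernel


theorem pair_check : prodIs (el 48) (el 62) (el 514) = true ∧ prodIs (el 62) (el 48) (el 955) = true ∧
    el 514 ≠ el 955 := by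
  decide +kernel

/-- The map of seven points coded by a number. -/
noncomputable def pfun (c : Nat) : Function.End (Fin 7) :=
  fun i => ⟨nth c i.val, Nat.mod_lt _ (by norm_num)⟩

theorem pfun_values : pfun (img 0) = 1 ∧ pfun (img 1244) = 1 ∧ pfun (img 2000) = 1 := by
  have e : ∀ c, (allBelow 3 7 fun i => Nat.beq (nth c i) i) = true → pfun c = 1 := fun c h =>
    funext fun i => Fin.ext (Nat.eq_of_beq_eq_true (of_allBelow h i.val i.isLt))
  exact ⟨e _ (by decide +kernel), e _ (by decide +kernel), e _ (by decide +kernel)⟩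

local instance factFive : Fact (Nat.Prime 5) := ⟨by norm_num⟩

theorem exists_root : ∃ r : GaloisField 5 2, r ^ 2 = 2 := by
  haveI : Fintype (GaloisField 5 2) := Fintype.ofFinite _
  have hc : Fintype.card (GaloisField 5 2) = 25 := by
    rw [← Nat.card_eq_fintype_card, GaloisField.card 5 2 (by norm_num)]; norm_num
  have h5 : (5 : GaloisField 5 2) = 0 := by exact_mod_cast CharP.cast_eq_zero (GaloisField 5 2) 5
  have h2 : (2 : GaloisField 5 2) ≠ 0 := by
    intro h
    apply one_ne_zero (α := GaloisField 5 2)
    linear_combination h5 - 2 * h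
  obtain ⟨r, hr⟩ := (FiniteField.isSquare_iff (by rw [ringChar.eq (GaloisField 5 2) 5]; norm_num) h2).2
    (show (2 : GaloisField 5 2) ^ (Fintype.card (GaloisField 5 2) / 2) = 1 by
      rw [hc]; norm_num; linear_combination 819 * h5)
  exact ⟨r, by rw [hr, sq]⟩

/-- A surjection onto the alternating group of degree seven with central kernel of order three,
and two commuting images fixing a point whose lifts do not commute. -/
theorem exists_triple_seven : ∃ (Γ : Type) (_ : Group Γ) (_ : Finite Γ)
    (σ : Γ →* alternatingGroup (Fin 7)), Function.Surjective σ ∧ σ.ker ≤ center Γ ∧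
      Nat.card σ.ker = 3 ∧ ∃ x y : Γ, (∀ i : Fin 7, ((σ x).1 i).val = [5, 4, 1, 0, 2, 3, 6][i.val]) ∧
        (∀ i : Fin 7, ((σ y).1 i).val = [3, 1, 2, 5, 4, 0, 6][i.val]) ∧ ⁅x, y⁆ ∈ σ.ker ∧ ⁅x, y⁆ ≠ 1 := by
  obtain ⟨r, hr⟩ := exists_root
  have hF : Nat.card (GaloisField 5 2) = 5 ^ 2 := GaloisField.card 5 2 (by norm_num)
  obtain ⟨cA, cB, uA, uB⟩ := gen_ok
  have φ1 : φ r 1 = 1 := by simp [φ]
  obtain ⟨A, hA⟩ := exists_gen hr hF cA uA (by rw [det_eq hr cA, gen_det.1, φ1])
  obtain ⟨B, hB⟩ := exists_gen hr hF cB uB (by rw [det_eq hr cB, gen_det.2, φ1])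
  have hinjSU : ∀ x y : Cfsg.SU 3 (GaloisField 5 2) 5, suMat x = suMat y → x = y := fun x y h =>
    Subtype.ext (Subtype.ext h)
  have hcoded : ∀ j, j < 7560 → coded (el j) = true := fun j hj => of_allBelow el_coded j hj
  let G := closure ({A, B} : Set (Cfsg.SU 3 (GaloisField 5 2) 5))
  let M := Submonoid.closure ({A, B} : Set (Cfsg.SU 3 (GaloisField 5 2) 5))
  have hGM : ∀ g, g ∈ G ↔ g ∈ M := fun g =>
    SetLike.ext_iff.mp (Subgroup.closure_toSubmonoid_of_finite (s := ({A, B} : Set (Cfsg.SU 3 (GaloisField 5 2) 5)))) g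
  have hex : ∀ j, j < 7560 → ∃ g ∈ G, suMat g = mat r (el j) := by
    intro j
    induction j using Nat.strong_induction_on with
    | _ j ih =>
      intro hj
      rcases Nat.eq_zero_or_pos j with rfl | h0
      · exact ⟨1, one_mem _, by rw [suMat_one, mat_one]⟩
      · have h := of_allBelow el_par j hj
        rw [show Nat.beq j 0 = false by
          cases hh : Nat.beq j 0
          · rfl
          · exact absurd (Nat.eq_of_beq_eq_true hh) (by omega), cond_false, cond_false_eq_true] at h
        have hp : Nat.land (par j) 8191 < j := Nat.ble_eq.mp h.1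
        obtain ⟨g, hg, hge⟩ := ih _ hp (by omega)
        cases hb : Nat.beq (Nat.shiftRight (par j) 13) 0
        · have h2 := h.2
          rw [hb, cond_false] at h2
          exact ⟨g * B, mul_mem hg (subset_closure (by simp)),
            by rw [suMat_mul, hge, hB, mat_mul hr (hcoded _ (by omega)) cB h2]⟩
        · have h2 := h.2
          rw [hb, cond_true] at h2
          exact ⟨g * A, mul_mem hg (subset_closure (by simp)),
            by rw [suMat_mul, hge, hA, mat_mul hr (hcoded _ (by omega)) cA h2]⟩
  choose f hf hfe using hex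
  let elt : Fin 7560 → G := fun j => ⟨f j j.2, hf j j.2⟩
  have helt : ∀ j, suMat (elt j : Cfsg.SU 3 (GaloisField 5 2) 5) = mat r (el j) := fun j => hfe _ _
  have hstepA : ∀ j : Fin 7560, ∃ t : Fin 7560, elt t = elt j * ⟨A, subset_closure (by simp)⟩ ∧
      pfun (img t) = pfun (img j) * pfun imgA := by
    intro j
    have h := of_allBelow el_next j j.2
    simp only [cond_false_eq_true] at h
    refine ⟨⟨_, Nat.ble_eq.mp h.1⟩, Subtype.ext (hinjSU _ _ ?_), funext fun i => Fin.ext ?_⟩
    · rw [helt, Subgroup.coe_mul, suMat_mul, helt, hA, mat_mul hr (hcoded _ j.2) cA h.2.2.1]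
    · exact Nat.eq_of_beq_eq_true
        (cond_false_eq_true.mp (of_allBelow (of_allBelow img_step j j.2) i i.isLt)).1
  have hstepB : ∀ j : Fin 7560, ∃ t : Fin 7560, elt t = elt j * ⟨B, subset_closure (by simp)⟩ ∧
      pfun (img t) = pfun (img j) * pfun imgB := by
    intro j
    have h := of_allBelow el_next j j.2
    simp only [cond_false_eq_true] at h
    refine ⟨⟨_, Nat.ble_eq.mp h.2.1⟩, Subtype.ext (hinjSU _ _ ?_), funext fun i => Fin.ext ?_⟩
    · rw [helt, Subgroup.coe_mul, suMat_mul, helt, hB, mat_mul hr (hcoded _ j.2) cB h.2.2.2]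
    · exact Nat.eq_of_beq_eq_true
        (cond_false_eq_true.mp (of_allBelow (of_allBelow img_step j j.2) i i.isLt)).2
  have einj : Function.Injective elt := fun i j h => by
    have := congrArg (fun g : G => suMat (g : Cfsg.SU 3 (GaloisField 5 2) 5)) h
    simp only [helt] at this
    exact Fin.ext (el_inj i.2 j.2 (mat_inj hr (hcoded _ i.2) (hcoded _ j.2) this))
  have hzero : elt ⟨0, by norm_num⟩ = 1 :=
    Subtype.ext (hinjSU _ _ (by rw [helt, Subgroup.coe_one, suMat_one]; exact mat_one))
  have step : ∀ y, y ∈ M → ∀ hy : y ∈ G, ∃ P : Function.End (Fin 7), ∀ j : Fin 7560,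
      ∃ t : Fin 7560, elt t = elt j * ⟨y, hy⟩ ∧ pfun (img t) = pfun (img j) * P := by
    intro y hy
    induction hy using Submonoid.closure_induction with
    | mem y hy =>
      intro _
      rcases hy with rfl | hy
      · exact ⟨_, hstepA⟩
      · rw [Set.mem_singleton_iff] at hy
        subst hy
        exact ⟨_, hstepB⟩
    | one => exact fun _ => ⟨1, fun j => ⟨j, (mul_one _).symm, (mul_one _).symm⟩⟩
    | mul a b ha hb iha ihb =>
      intro hab
      obtain ⟨P, hP⟩ := iha ((hGM a).2 ha)
      obtain ⟨Q, hQ⟩ := ihb ((hGM b).2 hb)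
      refine ⟨P * Q, fun j => ?_⟩
      obtain ⟨t, t1, t2⟩ := hP j
      obtain ⟨u, u1, u2⟩ := hQ t
      exact ⟨u, by rw [u1, t1, mul_assoc]; rfl, by rw [u2, t2, mul_assoc]⟩
  have esurj : Function.Surjective elt := fun g => by
    obtain ⟨P, hP⟩ := step g.1 ((hGM _).1 g.2) g.2
    obtain ⟨t, t1, -⟩ := hP ⟨0, by norm_num⟩
    exact ⟨t, by rw [t1, hzero, one_mul]⟩
  let e : Fin 7560 ≃ G := Equiv.ofBijective elt ⟨einj, esurj⟩
  have esymm : ∀ j, e.symm (elt j) = j := fun j => e.symm_apply_apply j
  have eapp : ∀ g, elt (e.symm g) = g := fun g => e.apply_symm_apply g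
  let π : G →* Function.End (Fin 7) :=
    { toFun := fun g => pfun (img (e.symm g))
      map_one' := by rw [← hzero, esymm]; exact pfun_values.1
      map_mul' := fun g h => by
        obtain ⟨P, hP⟩ := step h.1 ((hGM _).1 h.2) h.2
        obtain ⟨t, t1, t2⟩ := hP (e.symm g)
        obtain ⟨u, u1, u2⟩ := hP ⟨0, by norm_num⟩
        rw [hzero, one_mul] at u1
        rw [pfun_values.1, one_mul] at u2
        rw [eapp] at t1
        rw [← t1, esymm, t2, ← u2]
        congr 3
        rw [← esymm u, u1] }
  let p : G →* Equiv.Perm (Fin 7) :=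
    Equiv.Perm.equivUnitsEnd.symm.toMonoidHom.comp π.toHomUnits
  have hp : ∀ g i, p g i = pfun (img (e.symm g)) i := fun g i => rfl
  have heven : ∀ g, p g ∈ alternatingGroup (Fin 7) := by
    intro g
    have hs : ∀ y, y ∈ M → ∀ hy : y ∈ G, Equiv.Perm.sign (p ⟨y, hy⟩) = 1 := by
      intro y hy
      induction hy using Submonoid.closure_induction with
      | mem y hy =>
        intro hyG
        have hval : (∀ i, p ⟨y, hyG⟩ i = pfun imgA i) ∨ ∀ i, p ⟨y, hyG⟩ i = pfun imgB i := by
          rcases hy with rfl | hy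
          · refine Or.inl fun i => ?_
            obtain ⟨t, t1, t2⟩ := hstepA ⟨0, by norm_num⟩
            rw [hzero, one_mul] at t1
            rw [pfun_values.1, one_mul] at t2
            rw [hp, ← t1, esymm, t2]
          · rw [Set.mem_singleton_iff] at hy
            subst hy
            refine Or.inr fun i => ?_
            obtain ⟨t, t1, t2⟩ := hstepB ⟨0, by norm_num⟩
            rw [hzero, one_mul] at t1
            rw [pfun_values.1, one_mul] at t2
            rw [hp, ← t1, esymm, t2]
        rcases hval with hval | hval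
        · rw [show p ⟨y, hyG⟩ = swap 3 4 * swap 5 6 from Equiv.ext fun i => Fin.ext <| by
            rw [hval i]; show nth _ i.val = _; clear hval; revert i; decide +kernel]
          decide +kernel
        · rw [show p ⟨y, hyG⟩ = List.formPerm [0, 1, 2, 3, 5, 4, 6] from Equiv.ext fun i => Fin.ext <| by
            rw [hval i]; show nth _ i.val = _; clear hval; revert i; decide +kernel]
          decide +kernel
      | one => intro h; rw [show (⟨1, h⟩ : G) = 1 from rfl, map_one, map_one]
      | mul a b ha hb iha ihb =>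
        intro hab
        rw [show (⟨a * b, hab⟩ : G) = ⟨a, (hGM a).2 ha⟩ * ⟨b, (hGM b).2 hb⟩ from rfl, map_mul,
          map_mul, iha, ihb, one_mul]
    exact Equiv.Perm.mem_alternatingGroup.2 (hs g.1 ((hGM _).1 g.2) g.2)
  let σ : G →* alternatingGroup (Fin 7) := p.codRestrict _ heven
  have hσ : ∀ g i, (σ g).1 i = pfun (img (e.symm g)) i := hp
  have hker : ∀ g, g ∈ σ.ker ↔ e.symm g ∈ ({⟨0, by norm_num⟩, ⟨1244, by norm_num⟩,
      ⟨2000, by norm_num⟩} : Finset (Fin 7560)) := by
    intro g
    simp only [Finset.mem_insert, Finset.mem_singleton, Fin.ext_iff]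
    constructor
    · intro h
      have hi : ∀ i : Fin 7, pfun (img (e.symm g)) i = i := fun i => by
        rw [← hσ, MonoidHom.mem_ker.1 h]; rfl
      have hv : ∀ i : Fin 7, nth (img (e.symm g).val) i.val = i.val := fun i => congrArg Fin.val (hi i)
      have := of_allBelow img_ker _ (e.symm g).2
      simp only [show nth (img (e.symm g).val) 0 = 0 from hv 0, show nth (img (e.symm g).val) 1 = 1 from hv 1,
        show nth (img (e.symm g).val) 2 = 2 from hv 2, show nth (img (e.symm g).val) 3 = 3 from hv 3,
        show nth (img (e.symm g).val) 4 = 4 from hv 4, show nth (img (e.symm g).val) 5 = 5 from hv 5,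
        show nth (img (e.symm g).val) 6 = 6 from hv 6] at this
      rcases hb : Nat.beq (e.symm g).val 0 with _ | _
      · rcases hb1 : Nat.beq (e.symm g).val 1244 with _ | _
        · rcases hb2 : Nat.beq (e.symm g).val 2000 with _ | _
          · simp [hb, hb1, hb2] at this
          · exact Or.inr (Or.inr (Nat.eq_of_beq_eq_true hb2))
        · exact Or.inr (Or.inl (Nat.eq_of_beq_eq_true hb1))
      · exact Or.inl (Nat.eq_of_beq_eq_true hb)
    · intro h
      refine MonoidHom.mem_ker.2 (Subtype.ext (Equiv.ext fun i => ?_))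
      rw [hσ]
      rcases h with h | h | h <;> rw [h]
      · rw [pfun_values.1]; rfl
      · rw [pfun_values.2.1]; rfl
      · rw [pfun_values.2.2]; rfl
  have hcard : Nat.card σ.ker = 3 := by
    rw [Nat.card_congr (e.symm.subtypeEquiv hker), Nat.card_eq_fintype_card, Fintype.card_coe]
    decide
  refine ⟨G, inferInstance, inferInstance, σ, ?_, ?_, hcard, elt ⟨48, by norm_num⟩,
    elt ⟨62, by norm_num⟩, ?_, ?_, ?_, ?_⟩
  · rw [← MonoidHom.range_eq_top]
    refine eq_top_of_card_eq _ ?_
    have h1 : Nat.card σ.range = σ.ker.index := (index_ker σ).symm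
    have h2 := σ.ker.card_mul_index
    have hG : Nat.card G = 7560 := by rw [← Nat.card_congr e, Nat.card_fin]
    rw [hcard, hG] at h2
    have h3 : Nat.card (alternatingGroup (Fin 7)) = 2520 := by
      rw [nat_card_alternatingGroup, Nat.card_fin]; rfl
    rw [h1, h3]; omega
  · intro g hg
    have hsc : ∃ a : GaloisField 5 2, suMat (g : Cfsg.SU 3 (GaloisField 5 2) 5) = a • 1 := by
      rw [← eapp g, helt]
      have := (hker g).1 hg
      simp only [Finset.mem_insert, Finset.mem_singleton, Fin.ext_iff] at this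
      rcases this with h | h | h <;> rw [h]
      · exact ⟨1, by rw [mat_one, one_smul]⟩
      · refine ⟨φ r (ent (el 1244) 0), ?_⟩
        have hv : ∀ i : Fin 9, ent (el 1244) i.val =
            if i.val % 4 = 0 then ent (el 1244) 0 else 0 := by decide +kernel
        ext i j
        rw [mat, Matrix.of_apply, hv ⟨3 * i.val + j.val, by omega⟩]
        fin_cases i <;> fin_cases j <;> simp [φ]
      · refine ⟨φ r (ent (el 2000) 0), ?_⟩
        have hv : ∀ i : Fin 9, ent (el 2000) i.val =
            if i.val % 4 = 0 then ent (el 2000) 0 else 0 := by decide +kernel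
        ext i j
        rw [mat, Matrix.of_apply, hv ⟨3 * i.val + j.val, by omega⟩]
        fin_cases i <;> fin_cases j <;> simp [φ]
    obtain ⟨a, ha⟩ := hsc
    refine mem_center_iff.2 fun x => Subtype.ext (hinjSU _ _ ?_)
    rw [Subgroup.coe_mul, Subgroup.coe_mul, suMat_mul, suMat_mul, ha, Matrix.mul_smul,
      Matrix.smul_mul, mul_one, one_mul]
  · intro i
    rw [hσ, esymm]
    revert i
    decide +kernel
  · intro i
    rw [hσ, esymm]
    revert i
    decide +kernel
  · rw [MonoidHom.mem_ker, map_commutatorElement, commutatorElement_eq_one_iff_commute]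
    refine Subtype.ext (Equiv.ext fun i => ?_)
    simp only [Subgroup.coe_mul, Equiv.Perm.mul_apply]
    rw [hσ, hσ, hσ, hσ, esymm, esymm]
    revert i
    decide +kernel
  · rw [ne_eq, commutatorElement_eq_one_iff_commute]
    intro h
    have h1 := congrArg (fun g : G => suMat (g : Cfsg.SU 3 (GaloisField 5 2) 5)) h.eq
    simp only [Subgroup.coe_mul, suMat_mul, helt] at h1
    rw [mat_mul hr (hcoded _ (by norm_num)) (hcoded _ (by norm_num)) pair_check.1,
      mat_mul hr (hcoded _ (by norm_num)) (hcoded _ (by norm_num)) pair_check.2.1] at h1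
    exact pair_check.2.2 (mat_inj hr (hcoded _ (by norm_num)) (hcoded _ (by norm_num)) h1)

end CfsgLib.AltSixMult
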